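import Mathlib.Algebra.Polynomial.RingDivision
import Mathlib.Algebra.Polynomial.Derivative
import Mathlib.Algebra.Polynomial.BigOperators
import Mathlib.Algebra.CharZero.Defs
import Mathlib.RingTheory.Polynomial.Basic
import Mathlib.RingTheory.Polynomial.DegreeLT
import Mathlib.RingTheory.Coprime.Lemmas
import Mathlib.LinearAlgebra.Dimension.Constructions
import Mathlib.LinearAlgebra.FiniteDimensional.Lemmas
import Mathlib.FieldTheory.Separable

/-!
# Polar parts with vanishing residues as images of an exact-differential map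
-/

namespace Groth.Agent.EffDivWronsk67

open Polynomial Finset

variable {k : Type*} [Field k] [CharZero k] {m : ℕ} (r : Fin m → k) (a : Fin m → ℕ)

/-- `∏ (X - rⱼ)` -/
noncomputable def P : k[X] := ∏ j, (X - C (r j))

/-- `E'/E · P` for `E = ∏ (X - rⱼ)^aⱼ` -/
noncomputable def Q : k[X] := ∑ j, C (a j : k) * ∏ l ∈ univ.erase j, (X - C (r l))

/-- `∏ (X - rⱼ)^aⱼ` -/
noncomputable def E : k[X] := ∏ j, (X - C (r j)) ^ a j

/-- `g ↦ D · (g/E)'` -/
noncomputable def T : k[X] →ₗ[k] k[X] where
  toFun g := derivative g * P r - g * Q r a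
  map_add' g h := by simp; ring
  map_smul' c g := by simp [smul_eq_C_mul]; ring

/-- multiples of `(X - x)^n` -/
noncomputable def M (x : k) (n : ℕ) : Submodule k k[X] :=
  (Ideal.span {(X - C x) ^ n}).restrictScalars k

omit [CharZero k] in
theorem mem_M {x : k} {n : ℕ} {g : k[X]} : g ∈ M x n ↔ (X - C x) ^ n ∣ g :=
  Ideal.mem_span_singleton

omit [CharZero k] in
theorem mem_degreeLT' {g : k[X]} {n : ℕ} : g ∈ degreeLT k n ↔ g = 0 ∨ g.natDegree < n := by
  rw [mem_degreeLT]
  by_cases h : g = 0
  · simp [h]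
  · simp [h, degree_eq_natDegree h]

omit [CharZero k] in
theorem prod_erase_X (i : Fin m) : (∏ l ∈ univ.erase i, (X - C (r l))) * (X - C (r i)) = P r := by
  rw [P, Finset.prod_erase_mul _ _ (mem_univ i)]

omit [CharZero k] in
theorem E_monic : (E r a).Monic := monic_prod_of_monic _ _ fun j _ => (monic_X_sub_C _).pow _

omit [CharZero k] in
theorem natDegree_E : (E r a).natDegree = ∑ j, a j := by
  rw [E, natDegree_prod_of_monic _ _ fun j _ => (monic_X_sub_C _).pow _]
  simp

omit [CharZero k] in
theorem P_monic : (P r).Monic := monic_prod_of_monic _ _ fun j _ => monic_X_sub_C _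

omit [CharZero k] in
theorem natDegree_P : (P r).natDegree = m := by
  rw [P, natDegree_prod_of_monic _ _ fun j _ => monic_X_sub_C _]
  simp

omit [CharZero k] in
theorem derivative_E : derivative (E r a) * P r = E r a * Q r a := by
  classical
  rw [E, derivative_prod_finset, Finset.sum_mul, Q, Finset.mul_sum]
  refine Finset.sum_congr rfl fun i _ => ?_
  have h1 : derivative ((X - C (r i)) ^ a i) * (X - C (r i)) = C (a i : k) * (X - C (r i)) ^ a i := by
    rcases Nat.eq_zero_or_pos (a i) with h | h
    · simp [h]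
    · rw [derivative_pow, derivative_X_sub_C, mul_one, mul_assoc, ← pow_succ, Nat.sub_add_cancel h]
  rw [← prod_erase_X r i, ← Finset.prod_erase_mul univ _ (mem_univ i)]
  linear_combination ((∏ j ∈ univ.erase i, (X - C (r j)) ^ a j) * ∏ l ∈ univ.erase i, (X - C (r l))) * h1

theorem T_E_mul (p : k[X]) : T r a (E r a * p) = derivative p * (E r a * P r) := by
  show derivative (E r a * p) * P r - E r a * p * Q r a = _
  rw [derivative_mul]
  linear_combination p * derivative_E r a

theorem T_E : T r a (E r a) = 0 := by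
  simpa using T_E_mul r a 1

theorem T_C_mul_E (c : k) : T r a (C c * E r a) = 0 := by
  rw [← smul_eq_C_mul, map_smul, T_E, smul_zero]

theorem T_sub (g : k[X]) (c : k) : T r a (g - C c * E r a) = T r a g := by
  rw [map_sub, T_C_mul_E, sub_zero]

omit [CharZero k] in
theorem eval_P {q : k} (hq : ∀ j, q ≠ r j) : (P r).eval q ≠ 0 := by
  simp [P, eval_prod, Finset.prod_ne_zero_iff, sub_ne_zero, hq]

omit [CharZero k] in
theorem eval_E {q : k} (hq : ∀ j, q ≠ r j) : (E r a).eval q ≠ 0 := by
  simp [E, eval_prod, Finset.prod_ne_zero_iff, sub_ne_zero, hq]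

/-- Order of vanishing of the image off the marked points. -/
theorem pow_dvd_T_of {x : k} {n : ℕ} {g : k[X]} (h : (X - C x) ^ (n + 1) ∣ g) : (X - C x) ^ n ∣ T r a g := by
  obtain ⟨u, rfl⟩ := h
  refine ⟨(C ((n + 1 : ℕ) : k) * u + (X - C x) * derivative u) * P r - (X - C x) * u * Q r a, ?_⟩
  show derivative ((X - C x) ^ (n + 1) * u) * P r - (X - C x) ^ (n + 1) * u * Q r a = _
  rw [derivative_mul, derivative_pow, derivative_X_sub_C]
  simp
  ring

theorem pow_dvd_of_T {q : k} (hq : ∀ j, q ≠ r j) {g : k[X]} (hg : g.eval q = 0) :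
    ∀ {n : ℕ}, (X - C q) ^ n ∣ T r a g → (X - C q) ^ (n + 1) ∣ g := by
  intro n h
  induction n with
  | zero => rw [zero_add, pow_one, dvd_iff_isRoot]; exact hg
  | succ n ih =>
    obtain ⟨u, rfl⟩ := ih ((pow_dvd_pow _ n.le_succ).trans h)
    have e : T r a ((X - C q) ^ (n + 1) * u) = (X - C q) ^ n *
        ((C ((n + 1 : ℕ) : k) * u + (X - C q) * derivative u) * P r - (X - C q) * u * Q r a) := by
      show derivative ((X - C q) ^ (n + 1) * u) * P r - (X - C q) ^ (n + 1) * u * Q r a = _
      rw [derivative_mul, derivative_pow, derivative_X_sub_C]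
      simp
      ring
    rw [e, pow_succ, mul_dvd_mul_iff_left (pow_ne_zero _ (X_sub_C_ne_zero q)), dvd_iff_isRoot] at h
    simp [IsRoot, eval_P r hq, Nat.cast_add_one_ne_zero] at h
    obtain ⟨v, hv⟩ := dvd_iff_isRoot.2 (show u.IsRoot q from h)
    exact ⟨v, by rw [hv]; ring⟩

/-- Order of vanishing at a marked point: it is preserved. -/
theorem T_at_marked (i : Fin m) (n : ℕ) (u : k[X]) :
    T r a ((X - C (r i)) ^ n * u) = (X - C (r i)) ^ n *
      ((C (n : k) * u + (X - C (r i)) * derivative u) * (∏ l ∈ univ.erase i, (X - C (r l))) - u * Q r a) := by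
  show derivative ((X - C (r i)) ^ n * u) * P r - (X - C (r i)) ^ n * u * Q r a = _
  have h1 : derivative ((X - C (r i)) ^ n * u) * (X - C (r i)) =
      (X - C (r i)) ^ n * (C (n : k) * u + (X - C (r i)) * derivative u) := by
    rcases Nat.eq_zero_or_pos n with h | h
    · simp [h]; ring
    · obtain ⟨s, rfl⟩ : ∃ s, n = s + 1 := ⟨n - 1, by omega⟩
      rw [derivative_mul, derivative_pow, derivative_X_sub_C]
      simp
      ring
  rw [← prod_erase_X r i]
  linear_combination (∏ l ∈ univ.erase i, (X - C (r l))) * h1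

theorem pow_dvd_T_marked (i : Fin m) {n : ℕ} {g : k[X]} (h : (X - C (r i)) ^ n ∣ g) :
    (X - C (r i)) ^ n ∣ T r a g := by
  obtain ⟨u, rfl⟩ := h
  exact ⟨_, T_at_marked r a i n u⟩

omit [CharZero k] in
theorem eval_Q (hr : Function.Injective r) (i : Fin m) :
    (Q r a).eval (r i) = (a i : k) * (∏ l ∈ univ.erase i, (X - C (r l))).eval (r i) := by
  classical
  rw [Q, eval_finset_sum, Finset.sum_eq_single i]
  · simp
  · intro j _ hj
    rw [eval_mul, eval_prod, Finset.prod_eq_zero (mem_erase.2 ⟨Ne.symm hj, mem_univ i⟩) (by simp), mul_zero]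
  · simp

theorem exists_of_pow_dvd_T_marked (hr : Function.Injective r) (i : Fin m) {n : ℕ} {g : k[X]}
    (h : (X - C (r i)) ^ n ∣ T r a g) : ∃ c : k, (X - C (r i)) ^ n ∣ g - C c * E r a := by
  classical
  have hP : (∏ l ∈ univ.erase i, (X - C (r l))).eval (r i) ≠ 0 := by
    rw [eval_prod, Finset.prod_ne_zero_iff]
    intro j hj
    simpa [sub_ne_zero] using fun h => ne_of_mem_erase hj (hr h).symm
  have key : ∀ g1 : k[X], (∀ u, g1 = (X - C (r i)) ^ a i * u → u.eval (r i) = 0) →
      (X - C (r i)) ^ n ∣ T r a g1 → (X - C (r i)) ^ n ∣ g1 := by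
    intro g1 hord hd
    rcases eq_or_ne g1 0 with rfl | hg1
    · exact dvd_zero _
    obtain ⟨u, hu, hu'⟩ := exists_eq_pow_rootMultiplicity_mul_and_not_dvd g1 hg1 (r i)
    generalize rootMultiplicity (r i) g1 = t at hu
    have hu0 : u.eval (r i) ≠ 0 := fun h0 => hu' (dvd_iff_isRoot.2 h0)
    have hta : t ≠ a i := fun ht => hu0 (hord u (ht ▸ hu))
    rw [hu]
    refine dvd_mul_of_dvd_left (pow_dvd_pow _ ?_) _
    by_contra hlt
    have hd' := (pow_dvd_pow (X - C (r i)) (not_le.1 hlt : t + 1 ≤ n)).trans hd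
    rw [hu, T_at_marked, pow_succ, mul_dvd_mul_iff_left (pow_ne_zero _ (X_sub_C_ne_zero _)), dvd_iff_isRoot] at hd'
    have : ((t : k) - (a i : k)) * (u.eval (r i) * (∏ l ∈ univ.erase i, (X - C (r l))).eval (r i)) = 0 := by
      simp only [IsRoot, eval_sub, eval_mul, eval_add, eval_C, eval_X, eval_natCast, sub_self, zero_mul, add_zero, eval_Q r a hr i] at hd'
      linear_combination hd'
    rcases mul_eq_zero.1 this with h0 | h0
    · exact hta (by exact_mod_cast sub_eq_zero.1 h0)
    · exact mul_ne_zero hu0 hP h0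
  by_cases hg : (X - C (r i)) ^ a i ∣ g
  · obtain ⟨w, hw⟩ := hg
    let e := ∏ j ∈ univ.erase i, (X - C (r j)) ^ a j
    have he : E r a = (X - C (r i)) ^ a i * e := by rw [E, ← mul_prod_erase _ _ (mem_univ i)]
    have he0 : e.eval (r i) ≠ 0 := by
      rw [eval_prod, Finset.prod_ne_zero_iff]
      intro j hj
      rw [eval_pow]
      exact pow_ne_zero _ (by simpa [sub_ne_zero] using fun h => ne_of_mem_erase hj (hr h).symm)
    refine ⟨w.eval (r i) / e.eval (r i), key _ (fun u hu => ?_) (by rwa [T_sub])⟩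
    have : u = w - C (w.eval (r i) / e.eval (r i)) * e := by
      apply mul_left_cancel₀ (pow_ne_zero (a i) (X_sub_C_ne_zero (r i)))
      rw [← hu, hw, he]; ring
    rw [this]
    simp [div_mul_cancel₀ _ he0]
  · exact ⟨0, by simpa using key g (fun u hu => absurd ⟨u, hu⟩ hg) h⟩

omit [CharZero k] in
theorem natDegree_Q : (Q r a).natDegree ≤ m - 1 := by
  classical
  refine natDegree_sum_le_of_forall_le _ _ fun i _ => (natDegree_C_mul_le _ _).trans ?_
  rw [natDegree_prod_of_monic _ _ fun j _ => monic_X_sub_C _]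
  simp

omit [CharZero k] in
theorem coeff_Q (hm : 0 < m) : (Q r a).coeff (m - 1) = ((∑ j, a j : ℕ) : k) := by
  classical
  rw [Q, finset_sum_coeff, Nat.cast_sum]
  refine Finset.sum_congr rfl fun i _ => ?_
  have h : (∏ l ∈ univ.erase i, (X - C (r l))).natDegree = m - 1 := by
    rw [natDegree_prod_of_monic _ _ fun j _ => monic_X_sub_C _]; simp
  rw [coeff_C_mul, ← h, (monic_prod_of_monic _ _ fun j _ => monic_X_sub_C _).coeff_natDegree, mul_one]

theorem coeff_T (g : k[X]) (hg : 0 < g.natDegree + m) :
    (T r a g).coeff (g.natDegree + m - 1) = ((g.natDegree : k) - ((∑ j, a j : ℕ) : k)) * g.leadingCoeff := by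
  show (derivative g * P r - g * Q r a).coeff _ = _
  rw [coeff_sub]
  have h1 : (derivative g * P r).coeff (g.natDegree + m - 1) = (g.natDegree : k) * g.leadingCoeff := by
    rcases Nat.eq_zero_or_pos g.natDegree with h | h
    · rw [derivative_of_natDegree_zero h]; simp [h]
    · rw [show g.natDegree + m - 1 = (g.natDegree - 1) + m by omega,
        coeff_mul_add_eq_of_natDegree_le (natDegree_derivative_le g) (natDegree_P r).le, coeff_derivative,
        show (P r).coeff m = 1 by have := (P_monic r).coeff_natDegree; rwa [natDegree_P] at this]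
      rw [Nat.sub_add_cancel h, mul_one, Nat.cast_sub h, leadingCoeff]
      ring
  have h2 : (g * Q r a).coeff (g.natDegree + m - 1) = ((∑ j, a j : ℕ) : k) * g.leadingCoeff := by
    rcases Nat.eq_zero_or_pos m with h | h
    · subst h; simp [Q]
    · rw [show g.natDegree + m - 1 = g.natDegree + (m - 1) by omega,
        coeff_mul_add_eq_of_natDegree_le le_rfl (natDegree_Q r a), coeff_Q r a h, leadingCoeff]
      ring
  rw [h1, h2]
  ring

theorem T_mem_degreeLT {g : k[X]} {s j : ℕ} (hg : g ∈ degreeLT k s) (h : s + m ≤ j + 1 ∨ s = 0) :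
    T r a g ∈ degreeLT k j := by
  rcases mem_degreeLT'.1 hg with rfl | hd
  · simp
  rw [mem_degreeLT']
  refine (em (T r a g = 0)).imp id fun h0 => ?_
  have hpos : 0 < g.natDegree + m := by
    by_contra hz
    obtain ⟨hz1, hz2⟩ : g.natDegree = 0 ∧ m = 0 := by omega
    subst hz2
    refine h0 ?_
    show derivative g * P r - g * Q r a = 0
    rw [derivative_of_natDegree_zero hz1]; simp [Q]
  have hle : (T r a g).natDegree ≤ g.natDegree + m - 1 := by
    refine (natDegree_sub_le _ _).trans (max_le ?_ ?_)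
    · rcases Nat.eq_zero_or_pos g.natDegree with hz | hz
      · rw [derivative_of_natDegree_zero hz]; simp
      · refine natDegree_mul_le.trans ?_
        have := natDegree_derivative_le g
        rw [natDegree_P]; omega
    · rcases Nat.eq_zero_or_pos m with hz | hz
      · subst hz; simp [Q]
      · refine natDegree_mul_le.trans ?_
        have := natDegree_Q r a
        omega
  omega

theorem exists_of_T_mem_degreeLT {g : k[X]} {s j : ℕ} (hg : T r a g ∈ degreeLT k j)
    (h : ∀ d, 0 < d + m → d + m < j + 1 → d < s) : ∃ c : k, g - C c * E r a ∈ degreeLT k s := by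
  have key : ∀ g1 : k[X], (g1 ≠ 0 → g1.natDegree ≠ ∑ j, a j) → T r a g1 ∈ degreeLT k j → g1 ∈ degreeLT k s := by
    intro g1 h1 h2
    rw [mem_degreeLT']
    refine (em (g1 = 0)).imp id fun h0 => ?_
    rcases Nat.eq_zero_or_pos (g1.natDegree + m) with hz | hz
    · exfalso
      obtain ⟨hz1, hz2⟩ : g1.natDegree = 0 ∧ m = 0 := by omega
      subst hz2
      exact h1 h0 (by simpa using hz1)
    have hc := coeff_T r a g1 hz
    have hne : (T r a g1).coeff (g1.natDegree + m - 1) ≠ 0 := by
      rw [hc]
      exact mul_ne_zero (sub_ne_zero.2 (by exact_mod_cast h1 h0)) (leadingCoeff_ne_zero.2 h0)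
    refine h _ hz ?_
    by_contra hlt
    refine hne (coeff_eq_zero_of_degree_lt ((mem_degreeLT.1 h2).trans_le ?_))
    exact_mod_cast (by omega : j ≤ g1.natDegree + m - 1)
  by_cases hA : g.natDegree = ∑ j, a j
  · refine ⟨g.leadingCoeff, key _ (fun hne heq => ?_) (by rwa [T_sub])⟩
    have hlt : (g - C g.leadingCoeff * E r a).degree < g.degree := by
      have hg0 : g ≠ 0 := fun h0 => hne (by simp [h0])
      refine degree_sub_lt ?_ hg0 (by rw [leadingCoeff_mul, leadingCoeff_C, (E_monic r a).leadingCoeff, mul_one])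
      rw [degree_mul, degree_C (leadingCoeff_ne_zero.2 hg0), zero_add, degree_eq_natDegree hg0,
        degree_eq_natDegree (E_monic r a).ne_zero, natDegree_E, hA]
    have := natDegree_lt_natDegree hne hlt
    omega
  · exact ⟨0, by simpa using key g (fun _ => hA) hg⟩

theorem exists_of_T_eq_zero {g : k[X]} (hg : T r a g = 0) : ∃ c : k, g = C c * E r a := by
  obtain ⟨c, hc⟩ := exists_of_T_mem_degreeLT r a (g := g) (s := 0) (j := 0) (by simp [hg]) (by omega)
  exact ⟨c, sub_eq_zero.1 (by simpa [mem_degreeLT'] using hc)⟩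

omit [CharZero k] in
/-- partial fractions -/
theorem mem_iSup_of_degree (hr : Function.Injective r) (s : Finset (Fin m)) :
    ∀ g ∈ degreeLT k (∑ j ∈ s, a j), g ∈ ⨆ i ∈ s, (degreeLT k (a i)).map
      (LinearMap.mulLeft k (∏ j ∈ s.erase i, (X - C (r j)) ^ a j)) := by
  classical
  induction s using Finset.induction_on with
  | empty => intro g hg; simpa [mem_degreeLT'] using hg
  | @insert i s hi ih =>
    intro g hg
    rw [Finset.sum_insert hi] at hg
    let F := (X - C (r i)) ^ a i
    let e := ∏ j ∈ s, (X - C (r j)) ^ a j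
    obtain ⟨x, y, hxy⟩ : IsCoprime e F := IsCoprime.prod_left fun j hj =>
      (pairwise_coprime_X_sub_C hr (fun h : j = i => hi (h ▸ hj))).pow
    have hF : F.Monic := (monic_X_sub_C _).pow _
    have hFd : F.natDegree = a i := by simp [F]
    have he : e.natDegree = ∑ j ∈ s, a j := by
      rw [natDegree_prod_of_monic _ _ fun j _ => (monic_X_sub_C _).pow _]; simp
    let u := (g * x) %ₘ F
    let v := g * y + e * ((g * x) /ₘ F)
    have hsum : g = e * u + F * v := by
      linear_combination (-g) * hxy - e * modByMonic_add_div (g * x) F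
    have hu : u ∈ degreeLT k (a i) := by
      rw [mem_degreeLT]
      refine (degree_modByMonic_lt _ hF).trans_le ?_
      rw [degree_eq_natDegree hF.ne_zero, hFd]
    have hv : v ∈ degreeLT k (∑ j ∈ s, a j) := by
      rcases eq_or_ne v 0 with h0 | h0
      · rw [h0]; exact zero_mem _
      have : F * v ∈ degreeLT k (a i + ∑ j ∈ s, a j) := by
        rw [show F * v = g - e * u by rw [hsum]; ring]
        refine sub_mem hg ?_
        rcases mem_degreeLT'.1 hu with h | h
        · rw [h, mul_zero]; exact zero_mem _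
        · refine mem_degreeLT'.2 (Or.inr (natDegree_mul_le.trans_lt ?_))
          omega
      rw [mem_degreeLT'] at this ⊢
      rcases this with h | h
      · exact absurd h (mul_ne_zero hF.ne_zero h0)
      · rw [natDegree_mul hF.ne_zero h0, hFd] at h
        exact Or.inr (by omega)
    rw [hsum]
    refine add_mem ?_ ?_
    · refine Submodule.mem_iSup_of_mem i (Submodule.mem_iSup_of_mem (mem_insert_self i s) ⟨u, hu, ?_⟩)
      simp [Finset.erase_insert hi, e]
    · have := Submodule.mem_map_of_mem (f := LinearMap.mulLeft k F) (ih v hv)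
      simp only [Submodule.map_iSup] at this
      refine SetLike.le_def.1 (iSup₂_le fun j hj => ?_) this
      rintro _ ⟨_, ⟨w, hw, rfl⟩, rfl⟩
      refine Submodule.mem_iSup_of_mem j (Submodule.mem_iSup_of_mem (mem_insert_of_mem hj) ⟨w, hw, ?_⟩)
      have hne : i ≠ j := fun h => hi (h ▸ hj)
      simp [Finset.erase_insert_of_ne hne, Finset.prod_insert (fun h => hi (mem_of_mem_erase h)), F, mul_assoc]

theorem map_T_polar (hr : Function.Injective r) (i : Fin m) :
    (((degreeLT k (a i)).map (LinearMap.mulLeft k (∏ j ∈ univ.erase i, (X - C (r j)) ^ a j))).map (T r a)) =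
      (degreeLT k (a i)).map (LinearMap.mulLeft k (∏ j ∈ univ.erase i, (X - C (r j)) ^ (a j + 1))) := by
  classical
  let L : k[X] →ₗ[k] k[X] :=
    { toFun := fun u => (X - C (r i)) * derivative u - C (a i : k) * u
      map_add' := fun u v => by simp; ring
      map_smul' := fun c u => by simp [smul_eq_C_mul]; ring }
  let e := ∏ j ∈ univ.erase i, (X - C (r j)) ^ a j
  let Pr' := ∏ l ∈ univ.erase i, (X - C (r l))
  have hD : (∏ j ∈ univ.erase i, (X - C (r j)) ^ (a j + 1)) = e * Pr' := by
    simp only [e, Pr', ← Finset.prod_mul_distrib, pow_succ]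
  have hT : ∀ u, T r a (e * u) = e * Pr' * L u := fun u => by
    have h1 := derivative_E r a
    have hE : E r a = (X - C (r i)) ^ a i * e := by rw [E, ← mul_prod_erase _ _ (mem_univ i)]
    rw [hE, derivative_mul, ← prod_erase_X r i] at h1
    have h3 : derivative ((X - C (r i)) ^ a i) * (X - C (r i)) = C (a i : k) * (X - C (r i)) ^ a i := by
      rcases Nat.eq_zero_or_pos (a i) with h | h
      · simp [h]
      · rw [derivative_pow, derivative_X_sub_C, mul_one, mul_assoc, ← pow_succ, Nat.sub_add_cancel h]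
    apply mul_left_cancel₀ (pow_ne_zero (a i) (X_sub_C_ne_zero (r i)))
    show _ * (derivative (e * u) * P r - e * u * Q r a) = _ * (e * Pr' * ((X - C (r i)) * derivative u - C (a i : k) * u))
    rw [derivative_mul, ← prod_erase_X r i]
    linear_combination u * h1 - u * e * Pr' * h3
  have hmaps : ∀ u ∈ degreeLT k (a i), L u ∈ degreeLT k (a i) := fun u hu => by
    refine sub_mem ?_ (by rw [← smul_eq_C_mul]; exact Submodule.smul_mem _ _ hu)
    rcases mem_degreeLT'.1 hu with h | h
    · simp [h]
    rcases Nat.eq_zero_or_pos u.natDegree with hz | hz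
    · simp [derivative_of_natDegree_zero hz]
    · refine mem_degreeLT'.2 (Or.inr (natDegree_mul_le.trans_lt ?_))
      have := natDegree_derivative_le u
      rw [natDegree_X_sub_C]; omega
  haveI : FiniteDimensional k (degreeLT k (a i)) := Module.Finite.equiv (degreeLTEquiv k (a i)).symm
  have hinj : Function.Injective (L.restrict hmaps) := by
    rw [injective_iff_map_eq_zero]
    rintro ⟨u, hu⟩ h
    have h' : (X - C (r i)) * derivative u - C (a i : k) * u = 0 := congrArg Subtype.val h
    refine Subtype.ext ?_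
    by_contra hne
    change u ≠ 0 at hne
    have hdeg := (mem_degreeLT'.1 hu).resolve_left hne
    rcases Nat.eq_zero_or_pos u.natDegree with hz | hz
    · rw [derivative_of_natDegree_zero hz, mul_zero, zero_sub, neg_eq_zero] at h'
      exact mul_ne_zero (C_ne_zero.2 (Nat.cast_ne_zero.2 (by omega))) hne h'
    · have hc := congrArg (fun p : k[X] => p.coeff u.natDegree) h'
      simp only [coeff_sub, coeff_C_mul, coeff_zero] at hc
      rw [show u.natDegree = 1 + (u.natDegree - 1) by omega,
        coeff_mul_add_eq_of_natDegree_le (natDegree_X_sub_C (r i)).le (natDegree_derivative_le u), coeff_derivative] at hc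
      rw [show u.natDegree - 1 + 1 = u.natDegree by omega, show 1 + (u.natDegree - 1) = u.natDegree by omega] at hc
      simp [coeff_X, coeff_C, Nat.cast_sub hz] at hc
      have : ((u.natDegree : k) - (a i : k)) * u.leadingCoeff = 0 := by linear_combination hc
      rcases mul_eq_zero.1 this with h0 | h0
      · have : u.natDegree = a i := by exact_mod_cast sub_eq_zero.1 h0
        omega
      · exact hne (leadingCoeff_eq_zero.1 h0)
  apply le_antisymm
  · rintro _ ⟨_, ⟨u, hu, rfl⟩, rfl⟩
    exact ⟨L u, hmaps u hu, by simp only [LinearMap.mulLeft_apply]; rw [hT, hD]⟩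
  · rintro _ ⟨v, hv, rfl⟩
    obtain ⟨⟨u, hu⟩, huv⟩ := LinearMap.surjective_of_injective hinj ⟨v, hv⟩
    refine ⟨e * u, ⟨u, hu, rfl⟩, ?_⟩
    rw [hT, show L u = v from congrArg Subtype.val huv, hD]
    rfl

theorem map_T_E_mul (b : ℕ) :
    ((degreeLT k (b + 1)).map (LinearMap.mulLeft k (E r a))).map (T r a) =
      (degreeLT k b).map (LinearMap.mulLeft k (∏ j, (X - C (r j)) ^ (a j + 1))) := by
  have hD : (∏ j, (X - C (r j)) ^ (a j + 1)) = E r a * P r := by
    simp only [E, P, ← Finset.prod_mul_distrib, pow_succ]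
  apply le_antisymm
  · rintro _ ⟨_, ⟨p, hp, rfl⟩, rfl⟩
    refine ⟨derivative p, ?_, ?_⟩
    · rcases Nat.eq_zero_or_pos p.natDegree with hz | hz
      · simp [derivative_of_natDegree_zero hz]
      rcases mem_degreeLT'.1 hp with h | h
      · simp [h]
      refine mem_degreeLT'.2 (Or.inr ?_)
      have := natDegree_derivative_le p
      omega
    · simp only [LinearMap.mulLeft_apply, hD, T_E_mul]; ring
  · rintro _ ⟨v, hv, rfl⟩
    obtain ⟨p, hp, hpv⟩ : ∃ p ∈ degreeLT k (b + 1), derivative p = v := by
      refine ⟨∑ i ∈ range b, monomial (i + 1) (v.coeff i / ((i : k) + 1)), Submodule.sum_mem _ fun i hi => ?_, ?_⟩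
      · rw [mem_degreeLT]
        exact (degree_monomial_le _ _).trans_lt (by exact_mod_cast Nat.succ_lt_succ (mem_range.1 hi))
      · conv_rhs => rw [as_sum_range' v (b + 1) (by rcases mem_degreeLT'.1 hv with h | h <;> simp_all <;> omega)]
        rw [map_sum, sum_range_succ, show v.coeff b = 0 from coeff_eq_zero_of_degree_lt (mem_degreeLT.1 hv),
          monomial_zero_right, add_zero]
        refine Finset.sum_congr rfl fun i _ => ?_
        rw [derivative_monomial, Nat.add_sub_cancel]
        congr 1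
        push_cast
        rw [div_mul_cancel₀ _ (Nat.cast_add_one_ne_zero i)]
    refine ⟨E r a * p, ⟨p, hp, rfl⟩, ?_⟩
    rw [T_E_mul, hpv, hD]
    exact mul_comm _ _

omit [CharZero k] in
theorem E_mul_mem (n : ℕ) {p : k[X]} (hp : p ∈ degreeLT k n) : E r a * p ∈ degreeLT k ((∑ j, a j) + n) := by
  rcases mem_degreeLT'.1 hp with h | h
  · simp [h]
  refine mem_degreeLT'.2 (Or.inr (natDegree_mul_le.trans_lt ?_))
  rw [natDegree_E]; omega

/-- The polar-part subspace as the image of `T`. -/
theorem span_eq_map (hr : Function.Injective r) (b : ℕ) :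
    ((degreeLT k b).map (LinearMap.mulLeft k (∏ j, (X - C (r j)) ^ (a j + 1))) ⊔
      ⨆ i, (degreeLT k (a i)).map (LinearMap.mulLeft k (∏ j ∈ univ.erase i, (X - C (r j)) ^ (a j + 1)))) =
      (degreeLT k ((∑ j, a j) + b + 1)).map (T r a) := by
  classical
  rw [← map_T_E_mul r a b]
  simp only [← map_T_polar r a hr, ← Submodule.map_iSup, ← Submodule.map_sup]
  congr 1
  apply le_antisymm
  · refine sup_le ?_ (iSup_le fun i => ?_)
    · rintro _ ⟨p, hp, rfl⟩
      exact E_mul_mem r a (b + 1) hp
    · rintro _ ⟨u, hu, rfl⟩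
      rcases mem_degreeLT'.1 hu with h | h
      · simp [h]
      refine mem_degreeLT'.2 (Or.inr (natDegree_mul_le.trans_lt ?_))
      rw [natDegree_prod_of_monic _ _ fun j _ => (monic_X_sub_C _).pow _]
      have := Finset.add_sum_erase univ a (mem_univ i)
      simp; omega
  · intro g hg
    rw [← modByMonic_add_div g (E r a)]
    refine add_mem (Submodule.mem_sup_right ?_) (Submodule.mem_sup_left ⟨g /ₘ E r a, ?_, rfl⟩)
    · have h := mem_iSup_of_degree r a hr univ (g %ₘ E r a) (by
        rw [mem_degreeLT]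
        refine (degree_modByMonic_lt _ (E_monic r a)).trans_le ?_
        rw [degree_eq_natDegree (E_monic r a).ne_zero, natDegree_E])
      exact SetLike.le_def.1 (iSup₂_le fun i _ => le_iSup (fun i => (degreeLT k (a i)).map
        (LinearMap.mulLeft k (∏ j ∈ univ.erase i, (X - C (r j)) ^ a j))) i) h
    · refine mem_degreeLT'.2 (Or.inr ?_)
      rw [natDegree_divByMonic _ (E_monic r a), natDegree_E]
      rcases mem_degreeLT'.1 hg with h | h
      · simp [h]
      · omega

end Groth.Agent.EffDivWronsk67
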