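import Groth.Agent.EffDivWronsk67.Basic
import Mathlib.Algebra.BigOperators.Intervals
import Mathlib.Data.Nat.Choose.Basic

/-!
# Dimensions of vanishing filtrations of images of the exact-differential map
-/

namespace Groth.Agent.EffDivWronsk67

open Polynomial Finset

variable {k : Type*} [Field k]

/-- Cutting by a functional. -/
theorem finrank_inf_ker {V : Type*} [AddCommGroup V] [Module k V] (W : Submodule k V) [FiniteDimensional k W]
    (φ : V →ₗ[k] k) {w : V} (hw : w ∈ W) (hne : φ w ≠ 0) :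
    Module.finrank k ↥(W ⊓ LinearMap.ker φ) + 1 = Module.finrank k W := by
  let f := φ.domRestrict W
  have hr : LinearMap.range f = ⊤ := LinearMap.range_eq_top.2 fun c =>
    ⟨(c / φ w) • ⟨w, hw⟩, by simp [f, div_mul_cancel₀ _ hne]⟩
  have h := LinearMap.finrank_range_add_finrank_ker f
  rw [hr, finrank_top, Module.finrank_self] at h
  have hk : Submodule.map W.subtype (LinearMap.ker f) = W ⊓ LinearMap.ker φ := by
    ext x
    simp [f]
    tauto
  rw [← hk, ← LinearEquiv.finrank_eq (Submodule.equivMapOfInjective _ W.injective_subtype _)]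
  omega

instance finite_degreeLT (n : ℕ) : FiniteDimensional k (degreeLT k n) :=
  Module.Finite.equiv (degreeLTEquiv k n).symm

theorem finrank_degreeLT' (n : ℕ) : Module.finrank k (degreeLT k n) = n := by
  rw [(degreeLTEquiv k n).finrank_eq, Module.finrank_fin_fun]

theorem finrank_inf_M (x : k) (L n : ℕ) : Module.finrank k ↥(degreeLT k L ⊓ M x n) = L - n := by
  have hne : (X - C x) ^ n ≠ 0 := pow_ne_zero _ (X_sub_C_ne_zero x)
  have heq : degreeLT k L ⊓ M x n = (degreeLT k (L - n)).map (LinearMap.mulLeft k ((X - C x) ^ n)) := by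
    apply le_antisymm
    · rintro g ⟨hg, hd⟩
      obtain ⟨u, rfl⟩ := mem_M.1 hd
      refine ⟨u, ?_, rfl⟩
      rcases eq_or_ne u 0 with rfl | hu
      · exact zero_mem _
      have h := (mem_degreeLT'.1 hg).resolve_left (mul_ne_zero hne hu)
      rw [natDegree_mul hne hu, natDegree_pow, natDegree_X_sub_C, mul_one] at h
      exact mem_degreeLT'.2 (Or.inr (by omega))
    · rintro _ ⟨u, hu, rfl⟩
      refine ⟨?_, mem_M.2 (dvd_mul_right _ _)⟩
      show (X - C x) ^ n * u ∈ degreeLT k L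
      rcases eq_or_ne u 0 with rfl | hu0
      · rw [mul_zero]; exact zero_mem _
      have h := (mem_degreeLT'.1 hu).resolve_left hu0
      refine mem_degreeLT'.2 (Or.inr ?_)
      rw [natDegree_mul hne hu0, natDegree_pow, natDegree_X_sub_C, mul_one]
      omega
  rw [heq, ← LinearEquiv.finrank_eq (Submodule.equivMapOfInjective _ (fun u v h => mul_left_cancel₀ hne h) _),
    finrank_degreeLT']

theorem pow_mem {x : k} {n L : ℕ} (h : n < L) : (X - C x) ^ n ∈ degreeLT k L ⊓ M x n :=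
  ⟨mem_degreeLT'.2 (Or.inr (by rw [natDegree_pow, natDegree_X_sub_C, mul_one]; exact h)), mem_M.2 dvd_rfl⟩

theorem pow_mul_mem (x y : k) {n L : ℕ} (h : n + 1 < L) : (X - C x) ^ n * (X - C y) ∈ degreeLT k L ⊓ M x n := by
  refine ⟨mem_degreeLT'.2 (Or.inr ?_), mem_M.2 (dvd_mul_right _ _)⟩
  rw [natDegree_mul (pow_ne_zero _ (X_sub_C_ne_zero x)) (X_sub_C_ne_zero y), natDegree_pow, natDegree_X_sub_C,
    natDegree_X_sub_C, mul_one]
  exact h

variable [CharZero k] {m : ℕ} (r : Fin m → k) (a : Fin m → ℕ)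

theorem ker_T : LinearMap.ker (T r a) = k ∙ E r a := by
  ext g
  rw [LinearMap.mem_ker, Submodule.mem_span_singleton]
  constructor
  · intro h
    obtain ⟨c, rfl⟩ := exists_of_T_eq_zero r a h
    exact ⟨c, smul_eq_C_mul c⟩
  · rintro ⟨c, rfl⟩
    rw [map_smul, T_E, smul_zero]

theorem finrank_map_T (W : Submodule k k[X]) [FiniteDimensional k W] [Decidable (E r a ∈ W)] :
    Module.finrank k ↥(W.map (T r a)) + (if E r a ∈ W then 1 else 0) = Module.finrank k W := by
  let f := (T r a).domRestrict W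
  have hr : LinearMap.range f = W.map (T r a) := by
    rw [LinearMap.range_domRestrict]
  have h := LinearMap.finrank_range_add_finrank_ker f
  rw [hr] at h
  have hk : Submodule.map W.subtype (LinearMap.ker f) = W ⊓ LinearMap.ker (T r a) := by
    ext x
    simp [f]
    tauto
  rw [LinearEquiv.finrank_eq (Submodule.equivMapOfInjective _ W.injective_subtype _), hk, ker_T] at h
  rw [← h]
  congr 1
  split_ifs with hE
  · rw [inf_eq_right.2 ((Submodule.span_singleton_le_iff_mem _ _).2 hE), finrank_span_singleton (E_monic r a).ne_zero]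
  · have : W ⊓ k ∙ E r a = ⊥ := by
      rw [Submodule.eq_bot_iff]
      rintro x ⟨hx, hx'⟩
      obtain ⟨c, rfl⟩ := Submodule.mem_span_singleton.1 hx'
      by_contra hne
      refine hE ?_
      have hc : c ≠ 0 := fun h0 => hne (by rw [h0, zero_smul])
      simpa [smul_smul, inv_mul_cancel₀ hc] using W.smul_mem c⁻¹ hx
    rw [this, finrank_bot]

theorem C_mul_E_mem {W : Submodule k k[X]} (hE : E r a ∈ W) (c : k) : C c * E r a ∈ W := by
  rw [← smul_eq_C_mul]; exact W.smul_mem _ hE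

theorem map_inf_M {W : Submodule k k[X]} (hE : E r a ∈ W) {q : k} (hq : ∀ j, q ≠ r j) (n : ℕ) :
    W.map (T r a) ⊓ M q n = (W ⊓ M q (n + 1)).map (T r a) := by
  apply le_antisymm
  · rintro _ ⟨⟨g, hg, rfl⟩, hd⟩
    refine ⟨g - C (g.eval q / (E r a).eval q) * E r a, ⟨sub_mem hg (C_mul_E_mem r a hE _), ?_⟩, T_sub r a g _⟩
    refine mem_M.2 (pow_dvd_of_T r a hq ?_ (by rw [T_sub]; exact mem_M.1 hd))
    simp [div_mul_cancel₀ _ (eval_E r a hq)]
  · rintro _ ⟨g, ⟨hg, hd⟩, rfl⟩
    exact ⟨⟨g, hg, rfl⟩, mem_M.2 (pow_dvd_T_of r a (mem_M.1 hd))⟩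

theorem map_inf_M_marked (hr : Function.Injective r) {W : Submodule k k[X]} (hE : E r a ∈ W) (i : Fin m) (n : ℕ) :
    W.map (T r a) ⊓ M (r i) n = (W ⊓ M (r i) n).map (T r a) := by
  apply le_antisymm
  · rintro _ ⟨⟨g, hg, rfl⟩, hd⟩
    obtain ⟨c, hc⟩ := exists_of_pow_dvd_T_marked r a hr i (mem_M.1 hd)
    exact ⟨g - C c * E r a, ⟨sub_mem hg (C_mul_E_mem r a hE _), mem_M.2 hc⟩, T_sub r a g _⟩
  · rintro _ ⟨g, ⟨hg, hd⟩, rfl⟩
    exact ⟨⟨g, hg, rfl⟩, mem_M.2 (pow_dvd_T_marked r a i (mem_M.1 hd))⟩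

theorem map_inf_degreeLT {W : Submodule k k[X]} (hE : E r a ∈ W) (N n : ℕ) :
    W.map (T r a) ⊓ degreeLT k (N + m - n) = (W ⊓ degreeLT k (N + 1 - n)).map (T r a) := by
  apply le_antisymm
  · rintro _ ⟨⟨g, hg, rfl⟩, hd⟩
    obtain ⟨c, hc⟩ := exists_of_T_mem_degreeLT r a (s := N + 1 - n) hd (fun d hd1 hd2 => by omega)
    exact ⟨g - C c * E r a, ⟨sub_mem hg (C_mul_E_mem r a hE _), hc⟩, T_sub r a g _⟩
  · rintro _ ⟨g, ⟨hg, hd⟩, rfl⟩
    exact ⟨⟨g, hg, rfl⟩, T_mem_degreeLT r a hd (by omega)⟩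

omit [CharZero k] in
theorem E_not_mem_M {q : k} (hq : ∀ j, q ≠ r j) (n : ℕ) : E r a ∉ M q (n + 1) := fun h =>
  eval_E r a hq (dvd_iff_isRoot.1 ((dvd_pow_self _ n.succ_ne_zero).trans (mem_M.1 h)))

omit [CharZero k] in
theorem E_mem_M_marked (hr : Function.Injective r) (i : Fin m) (n : ℕ) : E r a ∈ M (r i) n ↔ n ≤ a i := by
  classical
  have he : E r a = (X - C (r i)) ^ a i * ∏ j ∈ univ.erase i, (X - C (r j)) ^ a j := by
    rw [E, ← mul_prod_erase _ _ (mem_univ i)]
  rw [mem_M, he]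
  refine ⟨fun h => ?_, fun h => dvd_mul_of_dvd_left (pow_dvd_pow _ h) _⟩
  by_contra hlt
  have h' := (pow_dvd_pow (X - C (r i)) (not_le.1 hlt : a i + 1 ≤ n)).trans h
  rw [pow_succ, mul_dvd_mul_iff_left (pow_ne_zero _ (X_sub_C_ne_zero _)), dvd_iff_isRoot, IsRoot, eval_prod,
    Finset.prod_eq_zero_iff] at h'
  obtain ⟨j, hj, h0⟩ := h'
  rw [eval_pow, eval_sub, eval_X, eval_C] at h0
  exact ne_of_mem_erase hj (hr (sub_eq_zero.1 (eq_zero_of_pow_eq_zero h0))).symm

omit [CharZero k] in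
theorem E_mem_degreeLT (s : ℕ) : E r a ∈ degreeLT k s ↔ (∑ j, a j) < s := by
  rw [mem_degreeLT', natDegree_E]
  simp [(E_monic r a).ne_zero]

omit [CharZero k] in
theorem lead_E (N : ℕ) (h : (∑ j, a j) + 1 ≤ N) : E r a ∈ degreeLT k (N + 1) :=
  (E_mem_degreeLT r a _).2 (by omega)

/-- Reindex a weight sum. -/
theorem sum_range_eq {f : ℕ → ℕ} (d N : ℕ) (hd : ∀ n, d ≤ n → f n = 0) (hN : ∀ n, N ≤ n → f n = 0) :
    ∑ n ∈ range d, f n = ∑ n ∈ range N, f n := by
  rcases le_total d N with h | h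
  · exact sum_subset (range_subset_range.2 h) fun x _ hx => hd x (not_lt.1 fun hh => hx (mem_range.2 hh))
  · exact (sum_subset (range_subset_range.2 h) fun x _ hx => hN x (not_lt.1 fun hh => hx (mem_range.2 hh))).symm

theorem sum_ite_le (N e : ℕ) (h : e ≤ N) : ∑ n ∈ range N, (if n + 1 ≤ e then 1 else 0) = e := by
  rw [Finset.sum_boole, show (range N).filter (fun n => n + 1 ≤ e) = range e from ?_]
  · simp
  · ext x; simp; omega

theorem sum_triangle (N : ℕ) : ∑ n ∈ range N, (N - (n + 1)) = N.choose 2 := by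
  induction N with
  | zero => simp
  | succ N ih =>
    rw [sum_range_succ', Nat.choose_succ_succ, Nat.choose_one_right, ← ih]
    simp only [Nat.add_sub_add_right, Nat.zero_add, Nat.add_sub_cancel]
    ring

theorem choose_pred (N : ℕ) (h : 1 ≤ N) : N.choose 2 = (N - 1).choose 2 + (N - 1) := by
  obtain ⟨M, rfl⟩ : ∃ M, N = M + 1 := ⟨N - 1, by omega⟩
  rw [Nat.choose_succ_succ, Nat.choose_one_right, Nat.add_sub_cancel, add_comm]

/-- The weight at a point of the image of a hyperplane, from the filtration dimensions. -/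
theorem weight (N e d : ℕ) (he : e ≤ N) (f g : ℕ → ℕ) (hf : ∀ n < N, f n + (if n + 1 ≤ e then 1 else 0) = g n)
    (hd : ∀ n, d ≤ n → f n = 0) (hN : ∀ n, N ≤ n → f n = 0) :
    (∑ n ∈ range d, f n) + e = ∑ n ∈ range N, g n := by
  rw [sum_range_eq d N hd hN, ← Finset.sum_congr rfl (fun n hn => hf n (mem_range.1 hn)), sum_add_distrib,
    sum_ite_le N e he]

/-- A hyperplane containing the small degrees is cut out by the two top coefficients. -/
theorem exists_functional (N : ℕ) (hN : 1 ≤ N) (W : Submodule k k[X]) (hW : W ≤ degreeLT k (N + 1))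
    (hlow : degreeLT k (N - 1) ≤ W) (hdim : Module.finrank k W = N) :
    ∃ α β : k, (α ≠ 0 ∨ β ≠ 0) ∧ W = degreeLT k (N + 1) ⊓ LinearMap.ker (α • lcoeff k N + β • lcoeff k (N - 1)) := by
  let π : k[X] →ₗ[k] k × k := (lcoeff k N).prod (lcoeff k (N - 1))
  haveI : FiniteDimensional k W := Submodule.finiteDimensional_of_le hW
  have hker : ∀ g ∈ degreeLT k (N + 1), π g = 0 → g ∈ degreeLT k (N - 1) := fun g hg h0 => by
    rw [mem_degreeLT, degree_lt_iff_coeff_zero]
    intro j hj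
    rcases lt_trichotomy j N with h | h | h
    · obtain rfl : j = N - 1 := by omega
      exact congrArg Prod.snd h0
    · exact h ▸ congrArg Prod.fst h0
    · exact coeff_eq_zero_of_degree_lt ((mem_degreeLT.1 hg).trans_le (by exact_mod_cast h))
  have hlt : W.map π < ⊤ := by
    rw [lt_top_iff_ne_top]
    intro htop
    have hk : Submodule.map W.subtype (LinearMap.ker (π.domRestrict W)) = degreeLT k (N - 1) := by
      ext x
      simp only [Submodule.mem_map, LinearMap.mem_ker, Submodule.subtype_apply]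
      constructor
      · rintro ⟨⟨y, hy⟩, h0, rfl⟩
        exact hker y (hW hy) h0
      · intro hx
        refine ⟨⟨x, hlow hx⟩, ?_, rfl⟩
        have hd := (mem_degreeLT.1 hx)
        show (x.coeff N, x.coeff (N - 1)) = 0
        rw [coeff_eq_zero_of_degree_lt (hd.trans_le (by exact_mod_cast Nat.sub_le N 1)), coeff_eq_zero_of_degree_lt hd]
        rfl
    have h := LinearMap.finrank_range_add_finrank_ker (π.domRestrict W)
    rw [LinearMap.range_domRestrict, htop, finrank_top, Module.finrank_prod, Module.finrank_self,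
      LinearEquiv.finrank_eq (Submodule.equivMapOfInjective _ W.injective_subtype _), hk, finrank_degreeLT', hdim] at h
    omega
  obtain ⟨ψ, hψ, hle⟩ := Submodule.exists_dual_map_eq_bot_of_lt_top hlt inferInstance
  have hψe : ∀ u v : k, ψ (u, v) = ψ (1, 0) * u + ψ (0, 1) * v := fun u v => by
    rw [show (u, v) = u • ((1 : k), (0 : k)) + v • ((0 : k), (1 : k)) by simp, map_add, map_smul, map_smul]
    simp [mul_comm]
  refine ⟨ψ (1, 0), ψ (0, 1), ?_, ?_⟩
  · by_contra hcon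
    push Not at hcon
    exact hψ (LinearMap.ext fun ⟨u, v⟩ => by rw [hψe, hcon.1, hcon.2]; simp)
  have hsub : W ≤ degreeLT k (N + 1) ⊓ LinearMap.ker (ψ (1, 0) • lcoeff k N + ψ (0, 1) • lcoeff k (N - 1)) := by
    intro g hg
    refine ⟨hW hg, ?_⟩
    have : ψ (π g) ∈ (⊥ : Submodule k k) := hle ▸ Submodule.mem_map_of_mem (Submodule.mem_map_of_mem hg)
    rw [Submodule.mem_bot] at this
    rw [show π g = (g.coeff N, g.coeff (N - 1)) from rfl, hψe] at this
    simpa using this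
  refine Submodule.eq_of_le_of_finrank_le hsub ?_
  obtain ⟨w, hw, hne⟩ : ∃ w ∈ degreeLT k (N + 1),
      (ψ (1, 0) • lcoeff k N + ψ (0, 1) • lcoeff k (N - 1)) w ≠ 0 := by
    by_cases h1 : ψ (1, 0) = 0
    · refine ⟨X ^ (N - 1), mem_degreeLT'.2 (Or.inr (by rw [natDegree_X_pow]; omega)), ?_⟩
      have h2 : ψ (0, 1) ≠ 0 := fun h2 => hψ (LinearMap.ext fun ⟨u, v⟩ => by rw [hψe, h1, h2]; simp)
      simp [coeff_X_pow, show ¬N = N - 1 by omega, h2]
    · refine ⟨X ^ N, mem_degreeLT'.2 (Or.inr (by rw [natDegree_X_pow]; omega)), ?_⟩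
      simp [coeff_X_pow, show ¬N - 1 = N by omega, h1]
  have := finrank_inf_ker (degreeLT k (N + 1)) _ hw hne
  rw [finrank_degreeLT'] at this
  omega

omit [CharZero k] in
theorem coeff_pow_pred (x : k) (N : ℕ) : ((X - C x) ^ (N + 1)).coeff N = -((N + 1 : ℕ) : k) * x := by
  rw [sub_eq_add_neg, ← C_neg, coeff_X_add_C_pow, Nat.add_sub_cancel_left, pow_one, Nat.choose_succ_self_right]
  ring

end Groth.Agent.EffDivWronsk67
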