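import Groth.Agent.EffDivWronsk67.Dim

/-!
# Hyperplanes of the polar-part space
-/

namespace Groth.Agent.EffDivWronsk67

open Polynomial Finset

variable {k : Type*} [Field k] [CharZero k] {m : ℕ} (r : Fin m → k) (a : Fin m → ℕ)

/-- the functional cutting out a hyperplane -/
noncomputable def phi (N : ℕ) (α β : k) : k[X] →ₗ[k] k := α • lcoeff k N + β • lcoeff k (N - 1)

theorem exists_hyperplane (hr : Function.Injective r) (b : ℕ) (hb : 1 ≤ b) (N : ℕ) (hN : N = (∑ j, a j) + b)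
    (V₁ : Submodule k k[X]) (hV₁ : V₁ ≤ (degreeLT k (N + 1)).map (T r a)) (hfin : Module.finrank k ↥V₁ + 1 = N)
    (hU : (Polynomial.degreeLT k (b - 2)).map (LinearMap.mulLeft k (∏ j, (X - C (r j)) ^ (a j + 1))) ⊔
      (⨆ i, (Polynomial.degreeLT k (a i)).map
        (LinearMap.mulLeft k (∏ j ∈ Finset.univ.erase i, (X - C (r j)) ^ (a j + 1)))) ≤ V₁) :
    ∃ (W : Submodule k k[X]) (α β : k), (α ≠ 0 ∨ β ≠ 0) ∧ E r a ∈ W ∧ V₁ = W.map (T r a) ∧
      W = degreeLT k (N + 1) ⊓ LinearMap.ker (phi N α β) := by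
  classical
  rw [span_eq_map r a hr] at hU
  let W := degreeLT k (N + 1) ⊓ V₁.comap (T r a)
  haveI : FiniteDimensional k W := Submodule.finiteDimensional_inf_left _ _
  have hE : E r a ∈ W := ⟨lead_E r a N (by omega), by
    show T r a (E r a) ∈ V₁
    rw [T_E]; exact zero_mem _⟩
  have hmap : W.map (T r a) = V₁ := by
    apply le_antisymm
    · rintro _ ⟨g, ⟨-, hg⟩, rfl⟩
      exact hg
    · intro f hf
      obtain ⟨g, hg, rfl⟩ := hV₁ hf
      exact ⟨g, ⟨hg, hf⟩, rfl⟩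
  have hlow : degreeLT k (N - 1) ≤ W := fun g hg => by
    have hle : degreeLT k (N - 1) ≤ degreeLT k ((∑ j, a j) + (b - 2) + 1) := degreeLT_mono (by omega)
    exact ⟨degreeLT_mono (by omega) hg, hU ⟨g, hle hg, rfl⟩⟩
  have hdim : Module.finrank k W = N := by
    have := finrank_map_T r a W
    rw [hmap, if_pos hE] at this
    omega
  obtain ⟨α, β, hne, hW⟩ := exists_functional N (by omega) W inf_le_left hlow hdim
  exact ⟨W, α, β, hne, hE, hmap.symm, hW⟩

omit [CharZero k] in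
theorem exists_ne_phi {N : ℕ} (hN : 1 ≤ N) {α β : k} (h : α ≠ 0 ∨ β ≠ 0) (x : k) {n : ℕ} (hn : n ≤ N - 1) :
    ∃ w ∈ degreeLT k (N + 1) ⊓ M x n, phi N α β w ≠ 0 := by
  obtain ⟨M', rfl⟩ : ∃ M', N = M' + 1 := ⟨N - 1, by omega⟩
  have hmem : ∀ j, n ≤ j → j < M' + 1 + 1 → (X - C x) ^ j ∈ degreeLT k (M' + 1 + 1) ⊓ M x n := fun j h1 h2 =>
    ⟨(pow_mem (x := x) h2).1, mem_M.2 (pow_dvd_pow _ h1)⟩
  by_cases hβ : β = 0
  · refine ⟨_, hmem (M' + 1) (by omega) (by omega), ?_⟩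
    have hc : ((X - C x) ^ (M' + 1)).coeff (M' + 1) = 1 := by
      have := ((monic_X_sub_C x).pow (M' + 1)).coeff_natDegree
      rwa [natDegree_pow, natDegree_X_sub_C, mul_one] at this
    simpa [phi, hβ, hc] using h.resolve_right (not_not.2 hβ)
  · refine ⟨_, hmem M' (by omega) (by omega), ?_⟩
    have hc : ((X - C x) ^ M').coeff M' = 1 := by
      have := ((monic_X_sub_C x).pow M').coeff_natDegree
      rwa [natDegree_pow, natDegree_X_sub_C, mul_one] at this
    have hc' : ((X - C x) ^ M').coeff (M' + 1) = 0 :=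
      coeff_eq_zero_of_natDegree_lt (by rw [natDegree_pow, natDegree_X_sub_C, mul_one]; omega)
    simpa [phi, hc, hc'] using hβ

theorem finrank_map_le (W : Submodule k k[X]) [FiniteDimensional k W] :
    Module.finrank k ↥(W.map (T r a)) ≤ Module.finrank k W :=
  Submodule.finrank_map_le _ _

omit [CharZero k] in
theorem eq_bot_of_inf_M {L : ℕ} (x : k) {n : ℕ} (h : L ≤ n) : degreeLT k L ⊓ M x n = ⊥ := by
  haveI : FiniteDimensional k ↥(degreeLT k L ⊓ M x n) := Submodule.finiteDimensional_inf_left _ _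
  refine Submodule.finrank_eq_zero.1 ?_
  rw [finrank_inf_M]; omega

theorem unmarked_top (N : ℕ) {q : k} (hq : ∀ j, q ≠ r j) (hN : (∑ j, a j) + 1 ≤ N) :
    (degreeLT k (N + 1)).map (T r a) ⊓ M q N = ⊥ := by
  rw [map_inf_M r a (lead_E r a N hN) hq, eq_bot_of_inf_M q le_rfl, Submodule.map_bot]

end Groth.Agent.EffDivWronsk67
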